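import Cfsg.Agent.H50.RG.LStmts
import Cfsg.Agent.H24.Bs.GenSp

/-!
# S5714, RG-L17: `Sp(V)` is generated by two opposite unipotent radicals
-/

set_option autoImplicit false

namespace Cfsg.Agent.H969.RG

open Cfsg.Agent.H847.Bs Cfsg.Agent.H50.RG Module Cfsg.Agent.H24.Bs
open Cfsg.Agent.H440.Bs (perp mem_perp)

variable {F V : Type*} [Field F] [AddCommGroup V] [Module F V] {Φ : Frm F V}

/-- the map `x ↦ x + B(x,u) w + B(x,w) u` -/
def sgF (Φ : Frm F V) (u w : V) : V →ₗ[F] V where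
  toFun x := x + (Φ.B x u • w + Φ.B x w • u)
  map_add' x y := by
    rw [Φ.add_left, Φ.add_left, add_smul, add_smul]
    abel
  map_smul' a x := by
    rw [Φ.smul_left, Φ.smul_left, mul_smul, mul_smul, RingHom.id_apply, smul_add, smul_add]

theorem sgF_apply (u w x : V) : sgF Φ u w x = x + (Φ.B x u • w + Φ.B x w • u) := rfl

theorem sgF_sgF (hΦ : IsSp Φ) {u w : V} (h : Φ.B w u = 0) (x : V) : sgF Φ (-u) w (sgF Φ u w x) = x := by
  have h' : Φ.B u w = 0 := by rw [B_swap hΦ, h, neg_zero]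
  rw [sgF_apply, sgF_apply]
  have e1 : Φ.B (x + (Φ.B x u • w + Φ.B x w • u)) (-u) = - Φ.B x u := by
    rw [Φ.add_left, Φ.add_left, Φ.smul_left, Φ.smul_left, B_neg_right hΦ, B_neg_right hΦ, B_neg_right hΦ, h, hΦ.alt]
    ring
  have e2 : Φ.B (x + (Φ.B x u • w + Φ.B x w • u)) w = Φ.B x w := by
    rw [Φ.add_left, Φ.add_left, Φ.smul_left, Φ.smul_left, h', hΦ.alt]
    ring
  rw [e1, e2, neg_smul, smul_neg]
  abel

/-- the Siegel element -/
def sg (hΦ : IsSp Φ) {u w : V} (h : Φ.B w u = 0) : V ≃ₗ[F] V :=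
  LinearEquiv.ofLinearMap (sgF Φ u w) (sgF Φ (-u) w)
    (by
      apply LinearMap.ext
      intro x
      have h1 := sgF_sgF hΦ (u := -u) (w := w) (by rw [B_neg_right hΦ, h, neg_zero]) x
      rw [neg_neg] at h1
      exact h1)
    (LinearMap.ext (sgF_sgF hΦ h))

theorem sg_apply (hΦ : IsSp Φ) {u w : V} (h : Φ.B w u = 0) (x : V) :
    sg hΦ h x = x + (Φ.B x u • w + Φ.B x w • u) := rfl

theorem sg_iso (hΦ : IsSp Φ) {u w : V} (h : Φ.B w u = 0) : sg hΦ h ∈ Φ.Iso := by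
  have h' : Φ.B u w = 0 := by rw [B_swap hΦ, h, neg_zero]
  refine ⟨fun x y => ?_, fun x => by rw [hΦ.q, hΦ.q]⟩
  rw [sg_apply, sg_apply]
  simp only [Φ.add_left, Φ.add_right, Φ.smul_left, B_smul_right hΦ, h, h', hΦ.alt]
  rw [B_swap hΦ w y, B_swap hΦ u y]
  ring

/-- the transvection -/
noncomputable def tv (hΦ : IsSp Φ) (w : V) (a : F) : V ≃ₗ[F] V :=
  LinearEquiv.transvection (f := a • bil hΦ w) (v := w) (by
    show a * Φ.B w w = 0
    rw [hΦ.alt, mul_zero])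

theorem tv_apply (hΦ : IsSp Φ) (w : V) (a : F) (x : V) : tv hΦ w a x = x + (a * Φ.B w x) • w := rfl

theorem tv_iso (hΦ : IsSp Φ) (w : V) (a : F) : tv hΦ w a ∈ Φ.Iso := by
  refine ⟨fun x y => ?_, fun x => by rw [hΦ.q, hΦ.q]⟩
  rw [tv_apply, tv_apply]
  simp only [Φ.add_left, Φ.add_right, Φ.smul_left, B_smul_right hΦ, hΦ.alt]
  rw [B_swap hΦ x w]
  ring

/-- transvections with centre in `A` are in the radical -/
theorem tv_rad (hΦ : IsSp Φ) {A : Submodule F V} (hA : Φ.TI A) {w : V} (hw : w ∈ A) (a : F) :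
    tv hΦ w a ∈ RadG Φ A := by
  refine ⟨tv_iso hΦ w a, fun x => ?_, fun x hx => ?_, fun x hx => ?_⟩
  · rw [tv_apply, add_sub_cancel_left]
    exact (perp Φ A).smul_mem _ fun y hy => hA.1 w hw y hy
  · rw [tv_apply, add_sub_cancel_left]
    exact A.smul_mem _ hw
  · rw [tv_apply, hA.1 w hw x hx, mul_zero, zero_smul, add_zero]

/-- Siegel elements in the radical -/
theorem sg_rad (hΦ : IsSp Φ) {A : Submodule F V} (hA : Φ.TI A) {u w : V} (hu : u ∈ A) (hw : w ∈ perp Φ A) :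
    sg hΦ (hw u hu) ∈ RadG Φ A := by
  refine ⟨sg_iso hΦ _, fun x => ?_, fun x hx => ?_, fun x hx => ?_⟩
  · rw [sg_apply, add_sub_cancel_left]
    exact (perp Φ A).add_mem ((perp Φ A).smul_mem _ hw) ((perp Φ A).smul_mem _ fun y hy => hA.1 u hu y hy)
  · rw [sg_apply, add_sub_cancel_left, hx u hu, zero_smul, zero_add]
    exact A.smul_mem _ hu
  · have h1 : Φ.B x w = 0 := by rw [B_swap hΦ, hw x hx, neg_zero]
    rw [sg_apply, hA.1 x hx u hu, h1, zero_smul, zero_smul, add_zero, add_zero]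

variable {H : Subgroup (V ≃ₗ[F] V)}

/-- vectors outside `A'^⊥` are centres -/
theorem cen_of_notMem (hΦ : IsSp Φ) (hH : H ≤ Φ.Iso) {A A' C : Submodule F V} (hA : Φ.TI A) (hA' : Φ.TI A')
    (hc : IsCompl (A ⊔ A') C) (hp' : perp Φ A' = A' ⊔ C) (h1 : RadG Φ A ≤ H) (h2 : RadG Φ A' ≤ H) {v : V}
    (hv : v ∉ perp Φ A') : Cen Φ H v := by
  obtain ⟨u₀, hu₀, hB⟩ : ∃ u ∈ A', Φ.B v u ≠ 0 := by
    by_contra hcon
    push Not at hcon
    exact hv hcon
  obtain ⟨u, hu, hB1⟩ : ∃ u ∈ A', Φ.B v u = 1 :=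
    ⟨(Φ.B v u₀)⁻¹ • u₀, A'.smul_mem _ hu₀, by rw [B_smul_right hΦ, inv_mul_cancel₀ hB]⟩
  -- decompose `v`
  have hvt : v ∈ (A ⊔ A') ⊔ C := by rw [hc.sup_eq_top]; trivial
  obtain ⟨y, hy, c, hcC, hyc⟩ := Submodule.mem_sup.1 hvt
  obtain ⟨a, ha, a', ha', hya⟩ := Submodule.mem_sup.1 hy
  have hw : -(a' + c) ∈ perp Φ A' := by
    rw [hp']
    exact Submodule.neg_mem _ (Submodule.add_mem_sup ha' hcC)
  obtain ⟨w, hwe⟩ : ∃ w, w = -(a' + c) := ⟨_, rfl⟩
  rw [← hwe] at hw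
  have hva : v + w = a := by rw [hwe, ← hyc, ← hya]; abel
  -- the element
  have hg1 := h2 (sg_rad hΦ hA' hu hw)
  have hg2 := h2 (tv_rad hΦ hA' hu (Φ.B v w))
  have hau : Φ.B a u = 1 := by rw [← hva, Φ.add_left, hB1, hw u hu, add_zero]
  have e : (tv hΦ u (Φ.B v w) * sg hΦ (hw u hu)) v = a := by
    show tv hΦ u (Φ.B v w) (sg hΦ (hw u hu) v) = a
    rw [sg_apply, hB1, one_smul, ← add_assoc, hva, tv_apply, Φ.add_right, B_smul_right hΦ, hΦ.alt, mul_zero, add_zero,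
      B_swap hΦ u a, hau]
    rw [mul_neg, mul_one, neg_smul]
    abel
  have hca : Cen Φ H a := fun k => ⟨tv hΦ a k, h1 (tv_rad hΦ hA ha k), fun x => rfl⟩
  have h3 := hca.map hH (H.inv_mem (H.mul_mem hg2 hg1))
  rw [← e] at h3
  have e2 : (tv hΦ u (Φ.B v w) * sg hΦ (hw u hu))⁻¹ ((tv hΦ u (Φ.B v w) * sg hΦ (hw u hu)) v) = v :=
    LinearEquiv.symm_apply_apply _ v
  rwa [e2] at h3

/-- all vectors are centres -/
theorem cen_all (hΦ : IsSp Φ) (hH : H ≤ Φ.Iso) {A A' C : Submodule F V} (hO : Opp Φ A A' C) (hA0 : A ≠ ⊥)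
    (h1 : RadG Φ A ≤ H) (h2 : RadG Φ A' ≤ H) (v : V) : Cen Φ H v := by
  by_cases hv' : v ∈ perp Φ A'
  · by_cases hv : v ∈ perp Φ A
    · by_cases hv0 : v = 0
      · rw [hv0]; exact cen_zero
      · -- `v ∈ C`
        obtain ⟨y, hy⟩ : ∃ y, Φ.B v y ≠ 0 := by
          by_contra hcon
          push Not at hcon
          exact hv0 (hΦ.nd v hcon)
        have hyt : y ∈ (A ⊔ A') ⊔ C := by rw [hO.compl.sup_eq_top]; trivial
        obtain ⟨z, hz, w, hwC, hzw⟩ := Submodule.mem_sup.1 hyt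
        obtain ⟨b, hb, b', hb', hzb⟩ := Submodule.mem_sup.1 hz
        have hBw : Φ.B v w ≠ 0 := by
          rw [← hzw, ← hzb, Φ.add_right, Φ.add_right, hv b hb, hv' b' hb', zero_add, zero_add] at hy
          exact hy
        obtain ⟨a, ha, ha0⟩ := A.ne_bot_iff.1 hA0
        have hwp : w ∈ perp Φ A := by
          rw [hO.perp_eq]
          exact Submodule.mem_sup_right hwC
        have hg := h1 (sg_rad hΦ hO.ti ha hwp)
        have e : sg hΦ (hwp a ha) v = v + Φ.B v w • a := by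
          rw [sg_apply, hv a ha, zero_smul, zero_add]
        have hna : a ∉ perp Φ A' := by
          intro h3
          rw [hO.perp_eq'] at h3
          obtain ⟨d, hd, c, hc, hdc⟩ := Submodule.mem_sup.1 h3
          have h4 : c ∈ (A ⊔ A') ⊓ C := by
            refine ⟨?_, hc⟩
            have : c = a - d := by rw [← hdc]; abel
            rw [this]
            exact Submodule.sub_mem _ (Submodule.mem_sup_left ha) (Submodule.mem_sup_right hd)
          rw [hO.compl.inf_eq_bot, Submodule.mem_bot] at h4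
          rw [h4, add_zero] at hdc
          have h5 : a ∈ A ⊓ A' := ⟨ha, by rw [← hdc]; exact hd⟩
          rw [hO.disj.eq_bot, Submodule.mem_bot] at h5
          exact ha0 h5
        have hnv : v + Φ.B v w • a ∉ perp Φ A' := by
          intro h3
          apply hna
          have h4 : Φ.B v w • a ∈ perp Φ A' := by
            have := (perp Φ A').sub_mem h3 hv'
            rwa [add_sub_cancel_left] at this
          have h5 := (perp Φ A').smul_mem (Φ.B v w)⁻¹ h4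
          rwa [smul_smul, inv_mul_cancel₀ hBw, one_smul] at h5
        have h3 := (cen_of_notMem hΦ hH hO.ti hO.ti' hO.compl hO.perp_eq' h1 h2 hnv).map hH (H.inv_mem hg)
        rw [← e] at h3
        have e2 : (sg hΦ (hwp a ha))⁻¹ (sg hΦ (hwp a ha) v) = v := LinearEquiv.symm_apply_apply _ v
        rwa [e2] at h3
    · exact cen_of_notMem hΦ hH hO.ti' hO.ti (by rw [sup_comm]; exact hO.compl) hO.perp_eq h2 h1 hv
  · exact cen_of_notMem hΦ hH hO.ti hO.ti' hO.compl hO.perp_eq' h1 h2 hv'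

/-- **RG-L17** -/
theorem l17 : L17 := by
  intro F V _ _ _ _ _ Φ A A' C hΦ hO hA hC
  obtain ⟨H, hHe⟩ : ∃ H, H = (Φ.Iso ⊓ RadG Φ A) ⊔ (Φ.Iso ⊓ RadG Φ A') := ⟨_, rfl⟩
  rw [← hHe]
  have hH : H ≤ Φ.Iso := by
    rw [hHe]
    exact sup_le inf_le_left inf_le_left
  have h1 : RadG Φ A ≤ H := by
    rw [hHe]
    exact le_sup_of_le_left (le_inf (fun g hg => hg.1) le_rfl)
  have h2 : RadG Φ A' ≤ H := by
    rw [hHe]
    exact le_sup_of_le_right (le_inf (fun g hg => hg.1) le_rfl)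
  refine le_antisymm hH fun g hg => ?_
  refine Cfsg.Agent.H743.McL.mem_of_isometry (bil hΦ) (bil_alt hΦ) (fun x h => hΦ.nd x h) H (fun a c => ?_) g hg.1
  exact cen_all hΦ hH hO hA h1 h2 a c

end Cfsg.Agent.H969.RG
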